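import Groth.Agent.Misc15.RetractLift.Lift

/-!
A torus with an open retract of an open of affine space has surjective reduction maps over every
local algebra.
-/

set_option autoImplicit false
set_option linter.style.haveILetI false

universe u

open CategoryTheory MonoidalCategory CartesianMonoidalCategory MonObj AlgebraicGeometry TensorProduct
open Groth.Misc15.TorusDvr

noncomputable section

namespace Groth.Misc15.RetractLift

variable {k : Type u} [Field k] {T : Over (Spec (CommRingCat.of k))} [GrpObj T] [IsAffine T.left]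

omit [GrpObj T] in
theorem spMap_epi {S S' : Type u} [CommRing S] [CommRing S'] {φ : S →+* S'} (hφ : Function.Injective φ)
    {c : k →+* S} {c' : k →+* S'} (h : φ.comp c = c') {x y : sp c ⟶ T}
    (he : spMap φ c c' h ≫ x = spMap φ c c' h ≫ y) : x = y := by
  have h2 := congrArg ptHom he
  rw [ptHom_spMap, ptHom_spMap] at h2
  have h3 : ptHom x = ptHom y := RingHom.ext fun o => hφ (RingHom.congr_fun h2 o)
  refine Over.OverMorphism.ext ?_
  rw [← cancel_mono T.left.isoSpec.hom]
  exact ((specMap_ptHom x).symm.trans (by rw [h3])).trans (specMap_ptHom y)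

theorem isField_tensor {k' : Type*} {κ : Type u} [Field k'] [Field κ] [Algebra k k'] [Algebra k κ]
    [FiniteDimensional k k'] [FiniteDimensional k κ]
    (h : Nat.Coprime (Module.finrank k k') (Module.finrank k κ)) : IsField (k' ⊗[k] κ) := by
  obtain ⟨M, hM⟩ := Ideal.exists_maximal (k' ⊗[k] κ)
  letI := Ideal.Quotient.field M
  let Q := (k' ⊗[k] κ) ⧸ M
  letI : Algebra κ Q := ((Ideal.Quotient.mk M).comp
    ((Algebra.TensorProduct.includeRight : κ →ₐ[k] k' ⊗[k] κ) : κ →+* k' ⊗[k] κ)).toAlgebra
  haveI : IsScalarTower k κ Q := .of_algebraMap_eq fun c => by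
    show _ = Ideal.Quotient.mk M (Algebra.TensorProduct.includeRight (algebraMap k κ c))
    rw [AlgHom.commutes]; rfl
  haveI : IsScalarTower k k' Q := .of_algebraMap_eq fun c => rfl
  have hd1 : Module.finrank k k' ∣ Module.finrank k Q := ⟨_, (Module.finrank_mul_finrank k k' Q).symm⟩
  have hd2 : Module.finrank k κ ∣ Module.finrank k Q := ⟨_, (Module.finrank_mul_finrank k κ Q).symm⟩
  have hpos : 0 < Module.finrank k Q := Module.finrank_pos
  have hle : Module.finrank k Q ≤ Module.finrank k (k' ⊗[k] κ) :=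
    LinearMap.finrank_le_finrank_of_surjective (f := (Ideal.Quotient.mkₐ k M).toLinearMap)
      (Ideal.Quotient.mkₐ_surjective k M)
  have hge : Module.finrank k (k' ⊗[k] κ) ≤ Module.finrank k Q := by
    rw [Module.finrank_tensorProduct]
    exact Nat.le_of_dvd hpos (h.mul_dvd_of_dvd_of_dvd hd1 hd2)
  have hinj : Function.Injective (Ideal.Quotient.mkₐ k M).toLinearMap :=
    (LinearMap.injective_iff_surjective_of_finrank_eq_finrank (le_antisymm hge hle)).2
      (Ideal.Quotient.mkₐ_surjective k M)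
  exact (RingEquiv.ofBijective (Ideal.Quotient.mk M)
    ⟨hinj, Ideal.Quotient.mk_surjective⟩).toMulEquiv.isField (Field.toIsField Q)

variable {E : Type u} [Field E] [Algebra k E] [FiniteDimensional k E] [IsGalois k E]
  (τ : Groth.Reductive.MTInt.Triv T (sp (algebraMap k E))) {r : ℕ} (e : τ.M ≃+ (Fin r → ℤ))

include τ e in
theorem exists_bound {U : T.left.Opens} (hU : (U : Set T.left).Nonempty) {n : ℕ}
    {Y : (Spec (CommRingCat.of (MvPolynomial (Fin n) k))).Opens}
    (a : (U : Scheme.{u}) ⟶ (Y : Scheme.{u})) (b : (Y : Scheme.{u}) ⟶ (U : Scheme.{u}))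
    (hab : a ≫ b = 𝟙 (U : Scheme.{u}))
    (ha : a ≫ Y.ι ≫ Spec.map (CommRingCat.ofHom (algebraMap k (MvPolynomial (Fin n) k))) = U.ι ≫ T.hom)
    (hb : b ≫ U.ι ≫ T.hom = Y.ι ≫ Spec.map (CommRingCat.ofHom (algebraMap k (MvPolynomial (Fin n) k)))) :
    ∃ D : ℕ, ∀ (A : Type u) [CommRing A] [IsLocalRing A] [Algebra k A],
      (∃ S : Finset (IsLocalRing.ResidueField A), D < S.card) →
        ∀ u : sp ((IsLocalRing.residue A).comp (algebraMap k A)) ⟶ T,
          ∃ s : sp (algebraMap k A) ⟶ T, resPt ≫ s = u := by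
  obtain ⟨f, hfU, hf⟩ := exists_fun τ U hU
  obtain ⟨D, hD⟩ := exists_avoid_pair τ e f hf
  refine ⟨D, fun A _ _ _ hS u => ?_⟩
  obtain ⟨t₀, ht, hut⟩ := hD (IsLocalRing.ResidueField A) hS u
  let t : sp ((IsLocalRing.residue A).comp (algebraMap k A)) ⟶ T := t₀
  have hlift : ∀ w : sp ((IsLocalRing.residue A).comp (algebraMap k A)) ⟶ T, ptHom w f ≠ 0 →
      ∃ s : sp (algebraMap k A) ⟶ T, resPt ≫ s = w := fun w hw =>
    exists_lift_of_mem a b hab ha hb w fun p => hfU ((ptHom_ne_zero_iff w f p).2 hw)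
  obtain ⟨s₁, hs₁⟩ := hlift (u / t) hut
  obtain ⟨s₂, hs₂⟩ := hlift t ht
  exact ⟨s₁ * s₂, by rw [MonObj.comp_mul, hs₁, hs₂]; exact div_mul_cancel u t⟩

set_option maxHeartbeats 3200000 in
theorem exists_lift_pow (hT : Red.IsTorus T) {D : ℕ}
    (hD : ∀ (A : Type u) [CommRing A] [IsLocalRing A] [Algebra k A],
      (∃ S : Finset (IsLocalRing.ResidueField A), D < S.card) →
        ∀ u : sp ((IsLocalRing.residue A).comp (algebraMap k A)) ⟶ T,
          ∃ s : sp (algebraMap k A) ⟶ T, resPt ≫ s = u)
    {A : Type u} [CommRing A] [IsLocalRing A] [Algebra k A] [Finite (IsLocalRing.ResidueField A)]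
    (d : ℕ) [NeZero d] (hd : D < d) (hco : Nat.Coprime d (Module.finrank k (IsLocalRing.ResidueField A)))
    (u : sp ((IsLocalRing.residue A).comp (algebraMap k A)) ⟶ T) :
    ∃ s : sp (algebraMap k A) ⟶ T, resPt ≫ s = u ^ d := by
  haveI : Finite k := Finite.of_injective _ (algebraMap k (IsLocalRing.ResidueField A)).injective
  obtain ⟨p, hp⟩ := CharP.exists k
  haveI := hp
  haveI : Fact p.Prime := ⟨CharP.char_is_prime k p⟩
  let k' := FiniteField.Extension k p d
  let κ := IsLocalRing.ResidueField A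
  haveI : FiniteDimensional k κ := Module.Finite.of_finite
  let R : Type u := k' ⊗[k] A
  let π : R →ₐ[k] k' ⊗[k] κ := Algebra.TensorProduct.map (AlgHom.id k k') (IsScalarTower.toAlgHom k A κ)
  have hπs : Function.Surjective π :=
    Algebra.TensorProduct.map_surjective (AlgHom.id k k') (IsScalarTower.toAlgHom k A κ)
      Function.surjective_id IsLocalRing.residue_surjective
  have hfield : IsField (k' ⊗[k] κ) := isField_tensor (by rw [FiniteField.finrank_extension k p d]; exact hco)
  haveI : Nontrivial R := by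
    haveI : Nontrivial (k' ⊗[k] κ) := inferInstance
    exact π.toRingHom.domain_nontrivial
  haveI : Algebra.IsIntegral A (A ⊗[k] k') := Algebra.IsIntegral.of_finite A _
  have hker : ∀ z : R, π z = 0 → ∀ M : Ideal R, M.IsMaximal → z ∈ M := by
    intro z hz M hM
    have h1 : z ∈ RingHom.ker (π : R →+* k' ⊗[k] κ) := hz
    rw [show RingHom.ker (π : R →+* k' ⊗[k] κ) = _ from Algebra.TensorProduct.lTensor_ker (A := k')
      (IsScalarTower.toAlgHom k A κ) IsLocalRing.residue_surjective] at h1
    refine (Ideal.map_le_iff_le_comap.2 ?_) h1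
    intro a ha
    have hint : ((Algebra.TensorProduct.includeRight : A →ₐ[k] R) : A →+* R).IsIntegral := by
      letI : Algebra A R := Algebra.TensorProduct.rightAlgebra
      haveI : Module.Finite A R := Module.Finite.equiv (Algebra.TensorProduct.commRight k A k').toLinearEquiv
      exact fun z => Algebra.IsIntegral.isIntegral (R := A) z
    haveI := hM
    have hmax := IsLocalRing.eq_maximalIdeal
      (Ideal.isMaximal_comap_of_isIntegral_of_isMaximal' _ hint M)
    show a ∈ M.comap ((Algebra.TensorProduct.includeRight : A →ₐ[k] R) : A →+* R)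
    rw [hmax]
    have : IsLocalRing.residue A a = 0 := ha
    rwa [← IsLocalRing.ker_residue, RingHom.mem_ker]
  have hunit : ∀ z : R, π z ≠ 0 → IsUnit z := by
    intro z hz
    obtain ⟨w, hw⟩ := hfield.mul_inv_cancel hz
    obtain ⟨w', rfl⟩ := hπs w
    by_contra hnu
    obtain ⟨M, hM, hzM⟩ := exists_max_ideal_of_mem_nonunits (mem_nonunits_iff.2 hnu)
    refine hM.ne_top ((Ideal.eq_top_iff_one M).2 ?_)
    have h2 := hker (z * w' - 1) (by rw [map_sub, map_mul, hw, map_one, sub_self]) M hM
    simpa using M.sub_mem (M.mul_mem_right w' hzM) h2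
  haveI : IsLocalRing R := IsLocalRing.of_isUnit_or_isUnit_one_sub_self fun z => by
    by_cases hz : π z = 0
    · exact Or.inr (hunit _ (by rw [map_sub, map_one, hz, sub_zero]; exact one_ne_zero))
    · exact Or.inl (hunit _ hz)
  -- the residue fields
  let iA : A →ₐ[k] R := Algebra.TensorProduct.includeRight
  haveI : IsLocalHom (iA : A →+* R) := ⟨fun a ha => by
    by_contra h
    have h0 : π (iA a) = 0 := by
      show π ((1 : k') ⊗ₜ a) = 0
      show (1 : k') ⊗ₜ[k] IsLocalRing.residue A a = 0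
      rw [(IsLocalRing.residue_eq_zero_iff a).2 h, tmul_zero]
    exact not_isUnit_zero (M₀ := k' ⊗[k] κ) (h0 ▸ ha.map π)⟩
  let φ : κ →+* IsLocalRing.ResidueField R := IsLocalRing.ResidueField.map (iA : A →+* R)
  have hφ : φ.comp ((IsLocalRing.residue A).comp (algebraMap k A)) = (IsLocalRing.residue R).comp (algebraMap k R) :=
    RingHom.ext fun c => congrArg (IsLocalRing.residue R) (iA.commutes c)
  let u' := spMap φ _ _ hφ ≫ u
  obtain ⟨s', hs'⟩ := hD R (by
    classical
    let j : k' →+* IsLocalRing.ResidueField R :=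
      (IsLocalRing.residue R).comp Algebra.TensorProduct.includeLeftRingHom
    haveI := Fintype.ofFinite k'
    refine ⟨Finset.univ.map ⟨j, j.injective⟩, ?_⟩
    rw [Finset.card_map, Finset.card_univ, ← Nat.card_eq_fintype_card, FiniteField.natCard_extension k p d]
    exact hd.trans (Nat.lt_pow_self Finite.one_lt_card)) u'
  -- the norm
  letI : CommGroup (sp (algebraMap k R) ⟶ T) :=
    { (inferInstance : Group (sp (algebraMap k R) ⟶ T)) with
      mul_comm := fun x y => Groth.Reductive2.torus_mul_comm hT x y }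
  let H := k' ≃ₐ[k] k'
  let hR : H → (R →ₐ[k] R) := fun g => Algebra.TensorProduct.map (g : k' →ₐ[k] k') (AlgHom.id k A)
  let act : H → (sp (algebraMap k R) ⟶ T) →* (sp (algebraMap k R) ⟶ T) := fun g =>
    { toFun := fun x => spMap (hR g : R →+* R) _ _ (hR g).comp_algebraMap ≫ x
      map_one' := MonObj.comp_one _
      map_mul' := fun x y => MonObj.comp_mul _ x y }
  have hact : ∀ g g' x, act g (act g' x) = act (g * g') x := by
    intro g g' x
    simp only [act, MonoidHom.coe_mk, OneHom.coe_mk]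
    rw [← Category.assoc, spMap_comp]
    congr 1
    ext : 1
    simp only [spMap_left]
    congr 2
    refine RingHom.ext fun z => ?_
    induction z using TensorProduct.induction_on with
    | zero => simp
    | tmul a b => rfl
    | add p q hp hq => simp only [map_add, hp, hq]
  have hginv : ∀ g z, hR g⁻¹ (hR g z) = z := fun g z => by
    induction z using TensorProduct.induction_on with
    | zero => simp
    | tmul a b =>
      show (g⁻¹ : H) (g a) ⊗ₜ[k] b = a ⊗ₜ[k] b
      rw [AlgEquiv.aut_inv, AlgEquiv.symm_apply_apply]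
    | add p q hp hq => simp only [map_add, hp, hq]
  let N := ∏ g, act g s'
  have hfix : ∀ g, act g N = N := fun g => by
    rw [map_prod]
    simp only [hact]
    exact Fintype.prod_equiv (Equiv.mulLeft g) _ _ fun g' => rfl
  obtain ⟨s, hs⟩ := exists_pt_of_range (iA : A →+* R)
    (Algebra.TensorProduct.includeRight_injective (algebraMap k k').injective) (algebraMap k A)
    (algebraMap k R) iA.comp_algebraMap N (fun o => exists_of_fixed _ fun g => by
      have h1 := RingHom.congr_fun (ptHom_spMap (hR g : R →+* R) (hR g).comp_algebraMap N) o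
      rw [show spMap (hR g : R →+* R) _ _ (hR g).comp_algebraMap ≫ N = N from hfix g] at h1
      exact h1.symm)
  refine ⟨s, spMap_epi φ.injective hφ ?_⟩
  have hcomm : spMap φ _ _ hφ ≫ resPt ≫ s = resPt ≫ N := by
    rw [← hs, resPt, resPt, ← Category.assoc, ← Category.assoc, spMap_comp, spMap_comp]
    congr 1
  have hN : ∀ g, resPt ≫ act g s' = spMap φ _ _ hφ ≫ u := by
    intro g
    haveI : IsLocalHom (hR g : R →+* R) := ⟨fun z hz => by
      have h2 := hz.map (hR g⁻¹)
      rwa [show hR g⁻¹ ((hR g : R →+* R) z) = z from hginv g z] at h2⟩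
    let gb : IsLocalRing.ResidueField R →+* IsLocalRing.ResidueField R :=
      IsLocalRing.ResidueField.map (hR g : R →+* R)
    have hgb : gb.comp ((IsLocalRing.residue R).comp (algebraMap k R)) =
        (IsLocalRing.residue R).comp (algebraMap k R) :=
      RingHom.ext fun c => congrArg (IsLocalRing.residue R) ((hR g).commutes c)
    have h1 : resPt ≫ act g s' = spMap gb _ _ hgb ≫ resPt ≫ s' := by
      simp only [act, MonoidHom.coe_mk, OneHom.coe_mk, resPt]
      rw [← Category.assoc, ← Category.assoc, spMap_comp, spMap_comp]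
      congr 1
    rw [h1, hs', ← Category.assoc, spMap_comp]
    congr 1
    ext : 1
    simp only [spMap_left]
    congr 2
    refine RingHom.ext fun x => ?_
    obtain ⟨a, rfl⟩ := IsLocalRing.residue_surjective x
    show IsLocalRing.residue R ((g (1 : k')) ⊗ₜ[k] a) = IsLocalRing.residue R ((1 : k') ⊗ₜ[k] a)
    rw [map_one]
  rw [hcomm]
  let push : (sp (algebraMap k R) ⟶ T) →* (sp ((IsLocalRing.residue R).comp (algebraMap k R)) ⟶ T) :=
    { toFun := fun x => resPt ≫ x
      map_one' := MonObj.comp_one _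
      map_mul' := fun x y => MonObj.comp_mul _ x y }
  letI : CommGroup (sp ((IsLocalRing.residue R).comp (algebraMap k R)) ⟶ T) :=
    { (inferInstance : Group (sp ((IsLocalRing.residue R).comp (algebraMap k R)) ⟶ T)) with
      mul_comm := fun x y => Groth.Reductive2.torus_mul_comm hT x y }
  show push N = _
  rw [map_prod]
  have hcard : Finset.univ.card (α := H) = d := by
    rw [Finset.card_univ, ← Nat.card_eq_fintype_card, IsGalois.card_aut_eq_finrank, FiniteField.finrank_extension k p d]
  calc ∏ g, push (act g s') = ∏ _g : H, spMap φ _ _ hφ ≫ u := Finset.prod_congr rfl fun g _ => hN g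
    _ = (spMap φ _ _ hφ ≫ u) ^ d := by rw [Finset.prod_const, hcard]
    _ = _ := (MonObj.comp_pow _ _ _).symm

include τ e in
theorem exists_lift (hT : Red.IsTorus T) {U : T.left.Opens} (hU : (U : Set T.left).Nonempty) {n : ℕ}
    {Y : (Spec (CommRingCat.of (MvPolynomial (Fin n) k))).Opens}
    (a : (U : Scheme.{u}) ⟶ (Y : Scheme.{u})) (b : (Y : Scheme.{u}) ⟶ (U : Scheme.{u}))
    (hab : a ≫ b = 𝟙 (U : Scheme.{u}))
    (ha : a ≫ Y.ι ≫ Spec.map (CommRingCat.ofHom (algebraMap k (MvPolynomial (Fin n) k))) = U.ι ≫ T.hom)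
    (hb : b ≫ U.ι ≫ T.hom = Y.ι ≫ Spec.map (CommRingCat.ofHom (algebraMap k (MvPolynomial (Fin n) k))))
    (A : Type u) [CommRing A] [IsLocalRing A] [Algebra k A]
    (u : sp ((IsLocalRing.residue A).comp (algebraMap k A)) ⟶ T) :
    ∃ s : sp (algebraMap k A) ⟶ T, resPt ≫ s = u := by
  classical
  obtain ⟨D, hD⟩ := exists_bound τ e hU a b hab ha hb
  by_cases hbig : ∃ S : Finset (IsLocalRing.ResidueField A), D < S.card
  · exact hD A hbig u
  push Not at hbig
  haveI : Finite (IsLocalRing.ResidueField A) := by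
    by_contra h
    rw [not_finite_iff_infinite] at h
    obtain ⟨S, hS⟩ := Infinite.exists_subset_card_eq (IsLocalRing.ResidueField A) (D + 1)
    exact absurd (hbig S) (by omega)
  set m := Module.finrank k (IsLocalRing.ResidueField A)
  haveI : FiniteDimensional k (IsLocalRing.ResidueField A) := Module.Finite.of_finite
  have hm : 0 < m := Module.finrank_pos
  obtain ⟨d, hd, hdp⟩ := Nat.exists_infinite_primes (D + m + 1)
  obtain ⟨d', hd', hdp'⟩ := Nat.exists_infinite_primes (d + 1)
  haveI : NeZero d := ⟨hdp.ne_zero⟩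
  haveI : NeZero d' := ⟨hdp'.ne_zero⟩
  obtain ⟨s₁, hs₁⟩ := exists_lift_pow hT hD d (by omega)
    (hdp.coprime_iff_not_dvd.2 (Nat.not_dvd_of_pos_of_lt hm (by omega))) u
  obtain ⟨s₂, hs₂⟩ := exists_lift_pow hT hD d' (by omega)
    (hdp'.coprime_iff_not_dvd.2 (Nat.not_dvd_of_pos_of_lt hm (by omega))) u
  have hco : Nat.Coprime d d' := (Nat.coprime_primes hdp hdp').2 (by omega)
  refine ⟨s₁ ^ (d.gcdA d') * s₂ ^ (d.gcdB d'), ?_⟩
  rw [MonObj.comp_mul, GrpObj.comp_zpow, GrpObj.comp_zpow, hs₁, hs₂, ← zpow_natCast u d,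
    ← zpow_natCast u d', ← zpow_mul, ← zpow_mul, ← zpow_add, ← Nat.gcd_eq_gcd_ab, hco, Nat.cast_one,
    zpow_one]

end Groth.Misc15.RetractLift
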