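import Mathlib

/-!
Points avoiding a Laurent polynomial after an invertible linear change of variables.
-/

set_option autoImplicit false

universe u

open MvPolynomial

namespace Groth.Misc15.RetractLift

variable {F : Type u} [Field F] {ι : Type*} [Fintype ι] [DecidableEq ι]

/-- Substitution by linear forms. -/
noncomputable def linSubst (L : Matrix ι ι F) : MvPolynomial ι F →ₐ[F] MvPolynomial ι F :=
  bind₁ fun i => ∑ a, C (L i a) * X a

theorem eval_linSubst (L : Matrix ι ι F) (P : MvPolynomial ι F) (x : ι → F) :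
    eval x (linSubst L P) = eval (L.mulVec x) P := by
  rw [linSubst]
  show eval₂Hom (RingHom.id F) x (bind₁ _ P) = _
  rw [eval₂Hom_bind₁]
  congr 2
  funext i
  simp [Matrix.mulVec, dotProduct]

theorem linSubst_comp (L M : Matrix ι ι F) :
    (linSubst M).comp (linSubst L) = linSubst (L * M) := by
  refine MvPolynomial.algHom_ext fun i => ?_
  simp only [linSubst, AlgHom.comp_apply, bind₁_X_right, map_sum, map_mul, bind₁_C_right,
    Finset.mul_sum]
  rw [Finset.sum_comm]
  refine Finset.sum_congr rfl fun b _ => ?_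
  rw [Matrix.mul_apply, map_sum, Finset.sum_mul]
  refine Finset.sum_congr rfl fun a _ => ?_
  rw [map_mul]
  ring

theorem linSubst_injective {L : Matrix ι ι F} (hL : IsUnit L) : Function.Injective (linSubst L) := by
  obtain ⟨M, rfl⟩ := hL
  refine Function.LeftInverse.injective (g := linSubst (↑M⁻¹ : Matrix ι ι F)) fun p => ?_
  rw [← AlgHom.comp_apply, linSubst_comp, Units.mul_inv]
  have : linSubst (1 : Matrix ι ι F) = AlgHom.id F _ := by
    refine MvPolynomial.algHom_ext fun i => ?_
    simp [linSubst, Matrix.one_apply]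
  rw [this]
  rfl

theorem totalDegree_linSubst (L : Matrix ι ι F) (P : MvPolynomial ι F) :
    (linSubst L P).totalDegree ≤ P.totalDegree := by
  conv_lhs => rw [P.as_sum, map_sum]
  refine (totalDegree_finset_sum _ _).trans (Finset.sup_le fun m hm => ?_)
  rw [linSubst, bind₁_monomial]
  refine (totalDegree_mul _ _).trans ?_
  rw [totalDegree_C, zero_add]
  refine ((totalDegree_finset_prod _ _).trans (Finset.sum_le_sum fun i _ => ?_)).trans
    (le_totalDegree hm)
  refine (totalDegree_pow _ _).trans ((Nat.mul_le_mul le_rfl ?_).trans (Nat.mul_one _).le)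
  exact (totalDegree_finset_sum _ _).trans (Finset.sup_le fun a _ =>
    (totalDegree_mul _ _).trans (by rw [totalDegree_C, zero_add, totalDegree_X]))

/-- The polynomial obtained by clearing the denominators of a Laurent polynomial. -/
noncomputable def clear {J : Type*} (s : Finset J) (a : J → ι → ℤ) (N : ℕ) (c : J → F) :
    MvPolynomial ι F :=
  ∑ j ∈ s, monomial (Finsupp.equivFunOnFinite.symm fun i => (a j i + N).toNat) (c j)

theorem clear_ne_zero {J : Type*} {s : Finset J} {a : J → ι → ℤ} {N : ℕ} {c : J → F}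
    (ha : Set.InjOn a s) (hN : ∀ j ∈ s, ∀ i, 0 ≤ a j i + N) {j₀ : J} (hj₀ : j₀ ∈ s) (hc : c j₀ ≠ 0) :
    clear s a N c ≠ 0 := fun h => by
  classical
  have h1 := congrArg (coeff (Finsupp.equivFunOnFinite.symm fun i => (a j₀ i + N).toNat)) h
  rw [clear, coeff_sum, coeff_zero, Finset.sum_eq_single j₀ (fun j hj hne => ?_) (absurd hj₀),
    coeff_monomial, if_pos rfl] at h1
  · exact hc h1
  · rw [coeff_monomial, if_neg]
    intro he
    refine hne (ha hj hj₀ (funext fun i => ?_))
    have hi := congrArg (fun v : ι →₀ ℕ => v i) he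
    simp only [Finsupp.coe_equivFunOnFinite_symm] at hi
    have := hN j hj i
    have := hN j₀ hj₀ i
    omega

theorem eval_clear {J : Type*} (s : Finset J) (a : J → ι → ℤ) (N : ℕ) (c : J → F) (y : ι → F)
    (hy : ∀ i, y i ≠ 0) (hN : ∀ j ∈ s, ∀ i, 0 ≤ a j i + N) :
    eval y (clear s a N c) = (∑ j ∈ s, c j * ∏ i, y i ^ a j i) * ∏ i, y i ^ (N : ℤ) := by
  rw [clear, map_sum, Finset.sum_mul]
  refine Finset.sum_congr rfl fun j hj => ?_
  rw [eval_monomial, Finsupp.prod_fintype _ _ (fun i => pow_zero _), mul_assoc,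
    ← Finset.prod_mul_distrib]
  congr 1
  refine Finset.prod_congr rfl fun i _ => ?_
  rw [← zpow_add₀ (hy i), ← zpow_natCast]
  simp [Int.toNat_of_nonneg (hN j hj i)]

omit [DecidableEq ι] in
theorem totalDegree_clear_le {J : Type*} (s : Finset J) (a : J → ι → ℤ) (N : ℕ) (c : J → F) :
    (clear s a N c).totalDegree ≤ s.sup fun j => ∑ i, (a j i + N).toNat := by
  refine (totalDegree_finset_sum _ _).trans (Finset.sup_mono_fun fun j _ => ?_)
  refine (totalDegree_monomial_le _ _).trans (le_of_eq ?_)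
  show (Finsupp.equivFunOnFinite.symm _).sum (fun _ e => e) = _
  rw [Finsupp.sum_fintype _ _ (fun _ => rfl)]
  simp

/-- A point of a large set at which finitely many Laurent polynomials are nonzero. -/
theorem exists_avoid (ι : Type*) [Fintype ι] [DecidableEq ι] {J : Type*} {Q : Type*} [Fintype Q]
    (s : Q → Finset J) (a : Q → J → ι → ℤ) (ha : ∀ q, Set.InjOn (a q) (s q)) :
    ∃ D : ℕ, ∀ (F : Type u) [Field F] (c : Q → J → F) (L : Matrix ι ι F), IsUnit L →
      (∀ q, ∃ j ∈ s q, c q j ≠ 0) → ∀ S : Finset F, D < S.card →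
        ∃ x : ι → F, (∀ i, x i ∈ S) ∧ (∀ i, L.mulVec x i ≠ 0) ∧
          ∀ q, ∑ j ∈ s q, c q j * ∏ i, L.mulVec x i ^ a q j i ≠ 0 := by
  let N : Q → ℕ := fun q => (s q).sup fun j => Finset.univ.sup fun i => (a q j i).natAbs
  have hN : ∀ q, ∀ j ∈ s q, ∀ i, 0 ≤ a q j i + N q := fun q j hj i => by
    have h1 : (a q j i).natAbs ≤ N q :=
      (Finset.le_sup (f := fun i => (a q j i).natAbs) (Finset.mem_univ i)).trans
        (Finset.le_sup (f := fun j => Finset.univ.sup fun i => (a q j i).natAbs) hj)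
    omega
  refine ⟨∑ q, ((s q).sup fun j => ∑ i, (a q j i + N q).toNat) + Fintype.card ι,
    fun F _ c L hL hc S hS => ?_⟩
  let P : MvPolynomial ι F := (∏ q, clear (s q) (a q) (N q) (c q)) * ∏ i, X i
  have hP : P ≠ 0 := mul_ne_zero (Finset.prod_ne_zero_iff.2 fun q _ => by
    obtain ⟨j, hj, hcj⟩ := hc q
    exact clear_ne_zero (ha q) (hN q) hj hcj) (Finset.prod_ne_zero_iff.2 fun i _ => X_ne_zero i)
  have hdeg : (linSubst L P).totalDegree < S.card := by
    refine lt_of_le_of_lt ((totalDegree_linSubst L P).trans ((totalDegree_mul _ _).trans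
      (add_le_add ((totalDegree_finset_prod _ _).trans
        (Finset.sum_le_sum fun q _ => totalDegree_clear_le _ _ _ _))
      ((totalDegree_finset_prod _ _).trans (le_of_eq ?_))))) hS
    simp
  by_contra hcon
  push Not at hcon
  refine hP ((linSubst_injective hL) (?_ : linSubst L P = linSubst L 0))
  rw [map_zero]
  refine eq_zero_of_eval_zero_at_prod_finset _ (fun _ => S)
    (fun i => (degreeOf_le_totalDegree _ i).trans_lt hdeg) fun x hx => ?_
  rw [eval_linSubst, map_mul, map_prod, map_prod]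
  by_cases h0 : ∀ i, L.mulVec x i ≠ 0
  · obtain ⟨q, hq⟩ := hcon x hx h0
    refine mul_eq_zero_of_left (Finset.prod_eq_zero (Finset.mem_univ q) ?_) _
    rw [eval_clear _ _ _ _ _ h0 (hN q), hq, zero_mul]
  · push Not at h0
    obtain ⟨i, hi⟩ := h0
    exact mul_eq_zero_of_right _ (Finset.prod_eq_zero (Finset.mem_univ i) (by rw [eval_X, hi]))

end Groth.Misc15.RetractLift
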