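import Groth.Agent.Misc15.TorusDvr.Pts
import Groth.Agent.Misc15.RetractLift.Avoid

/-!
Rational points of a split-by-Galois torus over a field in general position: for a field with enough
elements, every point is a product of two points at which a given function does not vanish.
-/

set_option autoImplicit false
set_option linter.style.haveILetI false

universe u

open CategoryTheory MonoidalCategory CartesianMonoidalCategory MonObj AlgebraicGeometry TensorProduct
open Groth.Reductive.MTInt Groth.Misc15.TorusDvr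

noncomputable section

namespace Groth.Misc15.RetractLift

variable {A : Type u} [CommRing A] {T : Over (Spec (CommRingCat.of A))} [GrpObj T]
  {B : Type u} [CommRing B] [Algebra A B] (τ : Triv T (sp (algebraMap A B)))

/-- The coordinate ring of the split torus. -/
abbrev CoordRing : Type u := MonoidAlgebra B (Multiplicative τ.M)

/-- The constants of the coordinate ring. -/
def const : B →+* CoordRing τ := MonoidAlgebra.singleOneRingHom

/-- The universal point. -/
def univPt : sp ((const τ).comp (algebraMap A B)) ⟶ T :=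
  (Φ τ (const τ) ((const τ).comp (algebraMap A B)) rfl).symm (MonoidAlgebra.of B (Multiplicative τ.M))

/-- Every point is a specialisation of the universal point. -/
theorem ptHom_eq_eval [IsAffine T.left] {S : Type u} [CommRing S] (β : B →+* S) (c : A →+* S)
    (h : β.comp (algebraMap A B) = c) (x : sp c ⟶ T) (o : Γ(T.left, ⊤)) :
    ptHom x o = MonoidAlgebra.liftNCRingHom β (Φ τ β c h x) (fun _ _ => Commute.all _ _)
      (ptHom (univPt τ) o) := by
  let f : MonoidAlgebra B (Multiplicative τ.M) →+* S :=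
    MonoidAlgebra.liftNCRingHom β (Φ τ β c h x) fun _ _ => Commute.all _ _
  have hf : ∀ m b, f (MonoidAlgebra.single m b) = β b * Φ τ β c h x m := fun m b =>
    MonoidAlgebra.liftNC_single _ _ _ _
  have hfι : f.comp (const τ) = β := RingHom.ext fun b => by
    show f (MonoidAlgebra.single 1 b) = β b
    rw [hf, map_one, _root_.mul_one]
  have hfc : f.comp ((const τ).comp (algebraMap A B)) = c := by
    rw [← RingHom.comp_assoc, hfι, h]
  have hx : spMap f _ c hfc ≫ univPt τ = x := by
    apply (Φ τ β c h).injective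
    have := Φ_map τ f (const τ) _ c rfl hfc (univPt τ)
    simp only [hfι] at this
    rw [this]
    refine MonoidHom.ext fun m => ?_
    show f (Φ τ (const τ) _ rfl (univPt τ) m) = _
    rw [univPt, MulEquiv.apply_symm_apply, MonoidAlgebra.of_apply, hf, map_one, _root_.one_mul]
  conv_lhs => rw [← hx, ptHom_spMap]
  rfl

/-- Fixed elements of a tensor product with a Galois extension. -/
theorem exists_of_fixed {k E V : Type*} [Field k] [Field E] [Algebra k E] [FiniteDimensional k E]
    [IsGalois k E] [CommRing V] [Algebra k V] (z : E ⊗[k] V)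
    (h : ∀ g : E ≃ₐ[k] E, Algebra.TensorProduct.map (g : E →ₐ[k] E) (AlgHom.id k V) z = z) :
    ∃ v : V, (1 : E) ⊗ₜ[k] v = z := by
  classical
  let bv := Module.Basis.ofVectorSpace k V
  let co := TensorProduct.equivFinsuppOfBasisRight (M := E) bv
  have hco : ∀ (g : E ≃ₐ[k] E) (w : E ⊗[k] V) i,
      co (Algebra.TensorProduct.map (g : E →ₐ[k] E) (AlgHom.id k V) w) i = g (co w i) := by
    intro g w i
    induction w using TensorProduct.induction_on with
    | zero => simp
    | tmul e v => simp [co, TensorProduct.equivFinsuppOfBasisRight_apply_tmul_apply, map_smul]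
    | add p q hp hq => simp only [map_add, Finsupp.add_apply, hp, hq]
  have hk : ∀ i, ∃ a : k, algebraMap k E a = co z i := fun i =>
    IntermediateField.mem_bot.1 ((IsGalois.mem_bot_iff_fixed (F := k) (co z i)).2 fun g => by
      rw [← hco, h g])
  choose a ha using hk
  refine ⟨∑ i ∈ (co z).support, a i • bv i, co.injective (Finsupp.ext fun i => ?_)⟩
  rw [TensorProduct.tmul_sum, map_sum, Finsupp.finsetSum_apply]
  simp only [co, TensorProduct.equivFinsuppOfBasisRight_apply_tmul_apply, map_smul,
    Finsupp.smul_apply, Module.Basis.repr_self, Finsupp.single_apply, smul_eq_mul]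
  rw [Finset.sum_eq_single i]
  · rw [if_pos rfl, _root_.mul_one, ← ha i, Algebra.algebraMap_eq_smul_one]
  · intro j _ hj; rw [if_neg hj, mul_zero, zero_smul]
  · intro hi
    rw [if_pos rfl, _root_.mul_one]
    have := Finsupp.notMem_support_iff.1 hi
    rw [← ha i, map_eq_zero_iff _ (algebraMap k E).injective] at this
    rw [this, zero_smul]

section Field

variable {k E : Type u} [Field k] [Field E] [Algebra k E] [FiniteDimensional k E] [IsGalois k E]
  {T : Over (Spec (CommRingCat.of k))} [GrpObj T] [IsAffine T.left]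
  (τ : Triv T (sp (algebraMap k E))) {r : ℕ} (e : τ.M ≃+ (Fin r → ℤ))

include e in
/-- Points in general position over fields with enough elements. -/
theorem exists_avoid_pair (f : Γ(T.left, ⊤)) (hf : ptHom (univPt τ) f ≠ 0) :
    ∃ D : ℕ, ∀ (κ : Type u) [Field κ] [Algebra k κ],
      (∃ S : Finset κ, D < S.card) → ∀ u : sp (algebraMap k κ) ⟶ T,
        ∃ t : sp (algebraMap k κ) ⟶ T, ptHom t f ≠ 0 ∧ ptHom (u / t) f ≠ 0 := by
  classical
  haveI : TwoUniqueSums τ.M := (AddEquiv.twoUniqueSums_iff e).2 inferInstance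
  choose σ hσ using fun g : E ≃ₐ[k] E => exists_sigma τ (g : E →ₐ[k] E)
  have hσinv : ∀ (g : E ≃ₐ[k] E) (m : τ.M), σ g (σ g⁻¹ m) = m := by
    intro g m
    have hg : ((const τ).comp ((g : E →ₐ[k] E) : E →+* E)).comp (algebraMap k E) = (const τ).comp (algebraMap k E) := by
      rw [RingHom.comp_assoc, AlgHom.comp_algebraMap]
    have hgg : (((const τ).comp ((g : E →ₐ[k] E) : E →+* E)).comp (((g⁻¹ : E ≃ₐ[k] E) : E →ₐ[k] E) : E →+* E)).comp (algebraMap k E) =
        (const τ).comp (algebraMap k E) := by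
      rw [RingHom.comp_assoc, RingHom.comp_assoc]
      refine RingHom.ext fun a => ?_
      simp
    have h1 := hσ g⁻¹ _ ((const τ).comp ((g : E →ₐ[k] E) : E →+* E)) _ hg hgg (univPt τ) m
    have h2 := hσ g _ (const τ) _ rfl hg (univPt τ) (σ g⁻¹ m)
    have h3 : ((const τ).comp ((g : E →ₐ[k] E) : E →+* E)).comp (((g⁻¹ : E ≃ₐ[k] E) : E →ₐ[k] E) : E →+* E) = (const τ) := by
      refine RingHom.ext fun a => ?_
      show (const τ) (g (g⁻¹ a)) = (const τ) a
      rw [AlgEquiv.aut_inv, AlgEquiv.apply_symm_apply]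
    rw [h2] at h1
    have hu' : Φ τ (const τ) _ rfl (univPt τ) (Multiplicative.ofAdd m) =
        Φ τ (const τ) _ rfl (univPt τ) (Multiplicative.ofAdd (σ g (σ g⁻¹ m))) := by
      rw [← h1]
      simp only [h3]
    rw [univPt] at hu'
    simp only [MulEquiv.apply_symm_apply] at hu'
    exact (Multiplicative.ofAdd.injective (MonoidAlgebra.of_injective hu')).symm
  -- exponents
  let G := E ≃ₐ[k] E
  let ex : τ.M → G × Fin r → ℤ := fun m p => e (σ p.1⁻¹ m) p.2
  have hex : Function.Injective ex := fun m m' h => by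
    have h1 : σ (1 : G)⁻¹ m = σ (1 : G)⁻¹ m' := e.injective (funext fun i => congrFun h ((1 : G), i))
    have := congrArg (σ (1 : G)) h1
    rwa [hσinv, hσinv] at this
  set h := ptHom (univPt τ) f with hh
  let s : Fin 2 → Finset τ.M := fun _ => h.coeff.support.map ⟨Multiplicative.toAdd, fun _ _ h => h⟩
  let a : Fin 2 → τ.M → G × Fin r → ℤ := ![ex, fun m p => -ex m p]
  obtain ⟨D, hD⟩ := exists_avoid.{u} (G × Fin r) s a (fun q => by
    fin_cases q
    · exact hex.injOn
    · exact fun m _ m' _ he => hex (funext fun p => neg_injective (congrFun he p)))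
  refine ⟨D, fun κ _ _ ⟨S, hS⟩ u => ?_⟩
  -- the compositum
  let V := E ⊗[k] κ
  haveI : Nontrivial V := inferInstance
  obtain ⟨M, hM⟩ := Ideal.exists_maximal V
  letI := Ideal.Quotient.field M
  let ε : V →+* V ⧸ M := Ideal.Quotient.mk M
  let jE : E →+* V := Algebra.TensorProduct.includeLeftRingHom
  let jκ : κ →ₐ[k] V := Algebra.TensorProduct.includeRight
  let θ : E →+* V ⧸ M := ε.comp jE
  have hjE : jE.comp (algebraMap k E) = algebraMap k V := rfl
  -- the matrix
  let b : Module.Basis G k E := (Module.finBasis k E).reindex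
    ((Fintype.equivFinOfCardEq (by rw [← Nat.card_eq_fintype_card]; exact IsGalois.card_aut_eq_finrank k E)).symm)
  let Mx : Matrix (G × Fin r) (G × Fin r) (V ⧸ M) := fun p q =>
    if p.2 = q.2 then θ (p.1 (b q.1)) else 0
  have hMx : IsUnit Mx := by
    let M₀ : Matrix G G E := fun g x => g (b x)
    have h0 : IsUnit M₀ := by
      rw [← Matrix.linearIndependent_rows_iff_isUnit, Fintype.linearIndependent_iff]
      intro c hc g
      have hli : LinearIndependent E (fun g : G => ((g : E →* E) : E → E)) :=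
        (linearIndependent_monoidHom E E).comp (fun g : G => (g : E →* E)) fun g g' h =>
          AlgEquiv.ext fun x => DFunLike.congr_fun h x
      refine Fintype.linearIndependent_iff.1 hli c ?_ g
      have hb : ∀ i, ∑ g : G, c g * g (b i) = 0 := fun i => by
        have := congrFun hc i
        simpa [Finset.sum_apply, Matrix.row, M₀] using this
      funext x
      rw [← b.sum_repr x]
      simp only [Finset.sum_apply, Pi.smul_apply, smul_eq_mul, Pi.zero_apply, map_sum, map_smul,
        MonoidHom.coe_coe, Finset.mul_sum]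
      rw [Finset.sum_comm]
      refine Finset.sum_eq_zero fun i _ => ?_
      simp only [mul_smul_comm, ← Finset.smul_sum, hb i, smul_zero]
    have h1 : IsUnit (M₀.map θ) := h0.map θ.mapMatrix
    obtain ⟨⟨X, Y, hXY, hYX⟩, hX⟩ := h1
    simp only at hX
    let Yx : Matrix (G × Fin r) (G × Fin r) (V ⧸ M) := fun p q => if p.2 = q.2 then Y p.1 q.1 else 0
    refine IsUnit.of_mul_eq_one Yx (Matrix.ext fun p q => ?_)
    rw [Matrix.mul_apply, Fintype.sum_prod_type]
    have hent : ∀ x, θ (p.1 (b x)) = X p.1 x := fun x => by rw [hX]; rfl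
    simp only [Mx, Yx, hent, ite_mul, zero_mul, mul_ite, mul_zero, Finset.sum_ite_eq, Finset.mem_univ, if_true]
    rw [Matrix.one_apply]
    by_cases hpq : p.2 = q.2
    · simp only [hpq, if_true, Finset.sum_ite_eq', Finset.mem_univ, ↓reduceIte]
      rw [← Matrix.mul_apply, hXY, Matrix.one_apply]
      simp [Prod.ext_iff, hpq]
    · simp [hpq, Prod.ext_iff]
  -- coefficients
  let uV := spMap (jκ : κ →+* V) (algebraMap k κ) (algebraMap k V) jκ.comp_algebraMap ≫ u
  let c : Fin 2 → τ.M → V ⧸ M := ![fun m => θ (h.coeff (Multiplicative.ofAdd m)),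
    fun m => θ (h.coeff (Multiplicative.ofAdd m)) * ε (Φ τ jE _ hjE uV (Multiplicative.ofAdd m))]
  have hθ : Function.Injective θ := θ.injective
  have hc : ∀ q, ∃ m ∈ s q, c q m ≠ 0 := by
    obtain ⟨m, hm⟩ := Finsupp.support_nonempty_iff.2
      (show h.coeff ≠ 0 from fun h0 => hf (MonoidAlgebra.ext h0))
    have hne : θ (h.coeff m) ≠ 0 := (map_ne_zero_iff θ hθ).2 (Finsupp.mem_support_iff.1 hm)
    intro q
    refine ⟨m.toAdd, Finset.mem_map.2 ⟨m, hm, rfl⟩, ?_⟩
    fin_cases q
    · exact hne
    · exact mul_ne_zero hne (((Group.isUnit m).map (Φ τ jE _ hjE uV)).map ε).ne_zero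
  have hεκ : Function.Injective (fun x : κ => ε (jκ x)) := (ε.comp (jκ : κ →+* V)).injective
  obtain ⟨X₀, hX₀, hy, hne⟩ := hD (V ⧸ M) c Mx hMx hc (S.map ⟨_, hεκ⟩) (by rwa [Finset.card_map])
  choose x hxS hx using fun p => Finset.mem_map.1 (hX₀ p)
  -- units of `E ⊗ κ`
  let gV : G → (V →ₐ[k] V) := fun g => Algebra.TensorProduct.map (g : E →ₐ[k] E) (AlgHom.id k κ)
  have hgV1 : ∀ z, gV 1 z = z := fun z => by
    induction z using TensorProduct.induction_on with
    | zero => simp
    | tmul a b => rfl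
    | add p q hp hq => simp only [map_add, hp, hq]
  have hgVmul : ∀ g g' z, gV (g * g') z = gV g (gV g' z) := fun g g' z => by
    induction z using TensorProduct.induction_on with
    | zero => simp
    | tmul a b => rfl
    | add p q hp hq => simp only [map_add, hp, hq]
  let z : Fin r → V := fun i => ∑ j, b j ⊗ₜ[k] x (j, i)
  have hzy : ∀ g i, ε (gV g (z i)) = Mx.mulVec X₀ (g, i) := by
    intro g i
    simp only [z, map_sum, Matrix.mulVec, dotProduct, Fintype.sum_prod_type, Mx, ite_mul, zero_mul,
      Finset.sum_ite_eq, Finset.mem_univ, if_true]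
    refine Finset.sum_congr rfl fun j _ => ?_
    rw [← hx (j, i)]
    show ε (g (b j) ⊗ₜ[k] x (j, i)) = ε (g (b j) ⊗ₜ[k] (1 : κ)) * ε ((1 : E) ⊗ₜ[k] x (j, i))
    rw [← map_mul, Algebra.TensorProduct.tmul_mul_tmul, _root_.mul_one, _root_.one_mul]
  have hzu : ∀ i, IsUnit (z i) := fun i => by
    have hN : ∀ g, gV g (∏ g', gV g' (z i)) = ∏ g', gV g' (z i) := fun g => by
      rw [map_prod]
      exact Fintype.prod_equiv (Equiv.mulLeft g) _ _ fun g' => (hgVmul g g' (z i)).symm
    obtain ⟨n, hn⟩ := exists_of_fixed _ hN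
    have hn0 : n ≠ 0 := fun h0 => by
      have := congrArg ε hn
      rw [h0, tmul_zero, map_zero, map_prod, eq_comm, Finset.prod_eq_zero_iff] at this
      obtain ⟨g, -, hg⟩ := this
      exact hy (g, i) (by rw [← hzy]; exact hg)
    have hu1 : IsUnit (∏ g', gV g' (z i)) := hn ▸ (Ne.isUnit hn0).map jκ
    have := isUnit_of_dvd_unit (Finset.dvd_prod_of_mem (fun g' => gV g' (z i)) (Finset.mem_univ (1 : G))) hu1
    rwa [hgV1] at this
  let zH : Multiplicative τ.M →* V :=
    { toFun := fun m => ∏ i, (((hzu i).unit ^ e m.toAdd i : Vˣ) : V)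
      map_one' := by simp
      map_mul' := fun m m' => by
        simp [zpow_add, Finset.prod_mul_distrib] }
  let zp := (Φ τ jE _ hjE).symm zH
  -- the norm
  let push : G → (Multiplicative τ.M →* V) →* (Multiplicative τ.M →* V) := fun g =>
    { toFun := fun w => Φ τ jE _ hjE (spMap (gV g : V →+* V) _ _ (gV g).comp_algebraMap ≫
        (Φ τ jE _ hjE).symm w)
      map_one' := by rw [map_one, MonObj.comp_one, map_one]
      map_mul' := fun w w' => by rw [map_mul, MonObj.comp_mul, map_mul] }
  have hpush_comp : ∀ g g' w, push g (push g' w) = push (g * g') w := by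
    intro g g' w
    simp only [push, MonoidHom.coe_mk, OneHom.coe_mk, MulEquiv.symm_apply_apply]
    rw [← Category.assoc, spMap_comp]
    congr 2
    ext : 1
    simp only [spMap_left]
    congr 2
    exact RingHom.ext fun z => (hgVmul g g' z).symm
  have hpush_val : ∀ (g : G) (w : Multiplicative τ.M →* V) (m : τ.M),
      push g w (Multiplicative.ofAdd m) = gV g (w (Multiplicative.ofAdd (σ g⁻¹ m))) := by
    intro g w m
    have hcomp : ((gV g : V →+* V).comp jE) = jE.comp ((g : E →ₐ[k] E) : E →+* E) :=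
      RingHom.ext fun a => rfl
    have h1 := Φ_map τ (gV g : V →+* V) jE _ _ hjE (gV g).comp_algebraMap ((Φ τ jE _ hjE).symm w)
    simp only [hcomp] at h1
    have h2 := hσ g _ jE _ hjE (by rw [RingHom.comp_assoc, AlgHom.comp_algebraMap, hjE])
      (spMap (gV g : V →+* V) _ _ (gV g).comp_algebraMap ≫ (Φ τ jE _ hjE).symm w) (σ g⁻¹ m)
    rw [hσinv, h1] at h2
    refine h2.symm.trans ?_
    show gV g (Φ τ jE _ hjE ((Φ τ jE _ hjE).symm w) _) = _
    rw [MulEquiv.apply_symm_apply]
  let W : Multiplicative τ.M →* V := ∏ g, push g zH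
  let tV := (Φ τ jE _ hjE).symm W
  have hfix : ∀ g, spMap (gV g : V →+* V) _ _ (gV g).comp_algebraMap ≫ tV = tV := fun g => by
    apply (Φ τ jE _ hjE).injective
    show push g W = Φ τ jE _ hjE ((Φ τ jE _ hjE).symm W)
    rw [MulEquiv.apply_symm_apply, map_prod]
    simp only [hpush_comp]
    exact Fintype.prod_equiv (Equiv.mulLeft g) _ _ fun g' => rfl
  obtain ⟨t, ht⟩ := exists_pt_of_range (jκ : κ →+* V) (jκ : κ →+* V).injective (algebraMap k κ) _
    jκ.comp_algebraMap tV (fun o => exists_of_fixed _ fun g => by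
      have h1 := RingHom.congr_fun (ptHom_spMap (gV g : V →+* V) (gV g).comp_algebraMap tV) o
      rw [hfix] at h1
      exact h1.symm)
  have hval : ∀ m : τ.M, ε (W (Multiplicative.ofAdd m)) = ∏ p, Mx.mulVec X₀ p ^ ex m p := by
    intro m
    simp only [W, MonoidHom.finsetProd_apply, map_prod, hpush_val]
    rw [Fintype.prod_prod_type]
    refine Finset.prod_congr rfl fun g _ => ?_
    show ε (gV g (∏ i, (((hzu i).unit ^ e (σ g⁻¹ m) i : Vˣ) : V))) = _
    rw [map_prod, map_prod]
    refine Finset.prod_congr rfl fun i _ => ?_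
    show ((ε.comp (gV g : V →+* V)) (((hzu i).unit ^ e (σ g⁻¹ m) i : Vˣ) : V)) = _
    rw [← MonoidHom.coe_coe, ← Units.coe_map, map_zpow, Units.val_zpow_eq_zpow_val]
    congr 1
    exact hzy g i
  have hsum : ∀ (y : sp (algebraMap k V) ⟶ T), ε (ptHom y f) = ∑ m ∈ h.coeff.support,
      θ (h.coeff m) * ε (Φ τ jE _ hjE y m) := by
    intro y
    rw [ptHom_eq_eval τ jE _ hjE y f, ← hh]
    conv_lhs => rw [← MonoidAlgebra.sum_coeff_single h]
    simp only [Finsupp.sum, map_sum]
    refine Finset.sum_congr rfl fun m _ => ?_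
    show ε (MonoidAlgebra.liftNC _ _ (MonoidAlgebra.single m (h.coeff m))) = _
    rw [MonoidAlgebra.liftNC_single]
    exact map_mul ε _ _
  refine ⟨t, fun h0 => hne 0 ?_, fun h0 => hne 1 ?_⟩
  · have h1 : ε (ptHom tV f) = 0 := by rw [← ht, ptHom_spMap]; simp [h0]
    rw [hsum] at h1
    rw [← h1, Finset.sum_map]
    refine Finset.sum_congr rfl fun m _ => ?_
    simp only [tV, MulEquiv.apply_symm_apply]
    rw [show m = Multiplicative.ofAdd m.toAdd from rfl, hval]
    rfl
  · have h1 : ε (ptHom (uV / tV) f) = 0 := by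
      rw [← ht, show uV / (spMap (jκ : κ →+* V) _ _ jκ.comp_algebraMap ≫ t) =
        spMap (jκ : κ →+* V) _ _ jκ.comp_algebraMap ≫ (u / t) by
          rw [div_eq_iff_eq_mul, ← MonObj.comp_mul, div_mul_cancel],
        ptHom_spMap]
      simp [h0]
    rw [hsum] at h1
    rw [← h1, Finset.sum_map]
    refine Finset.sum_congr rfl fun m _ => ?_
    rw [show m = Multiplicative.ofAdd m.toAdd from rfl]
    have hmul : Φ τ jE _ hjE (uV / tV) (Multiplicative.ofAdd m.toAdd) * W (Multiplicative.ofAdd m.toAdd) =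
        Φ τ jE _ hjE uV (Multiplicative.ofAdd m.toAdd) := by
      have h2 : W = Φ τ jE _ hjE tV := ((Φ τ jE _ hjE).apply_symm_apply W).symm
      rw [h2, ← MonoidHom.mul_apply, ← map_mul, div_mul_cancel]
    have h3 := congrArg ε hmul
    rw [map_mul, hval] at h3
    have hne0 : (∏ p, Mx.mulVec X₀ p ^ ex m.toAdd p) ≠ 0 :=
      Finset.prod_ne_zero_iff.2 fun p _ => zpow_ne_zero _ (hy p)
    rw [← eq_div_iff hne0] at h3
    rw [h3]
    simp only [c, a, Function.Embedding.coeFn_mk, Matrix.cons_val_one, Matrix.cons_val_fin_one, zpow_neg, Finset.prod_inv_distrib]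
    rw [div_eq_mul_inv, _root_.mul_assoc]
    rfl

end Field

end Groth.Misc15.RetractLift
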