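import Groth.Agent.Misc15.TorusDvr.Cover

/-!
An isotrivial torus over a field is split by a finite Galois extension.
-/

set_option autoImplicit false
set_option linter.style.haveILetI false

universe u

open CategoryTheory CategoryTheory.Limits MonoidalCategory CartesianMonoidalCategory MonObj AlgebraicGeometry
open Groth.Misc15.TorusDvr Groth.Reductive.MTInt

noncomputable section

namespace Groth.Misc15.RetractLift

theorem exists_field_split {k : Type u} [Field k] {T : Over (Spec (CommRingCat.of k))} [GrpObj T] {r : ℕ}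
    (hT : TwC.Locally (Spec (CommRingCat.of k)) .finiteEtale
      (fun S' g => Red.IsSplitTorusWith (Fin r → ℤ) (Red.bc g T))) :
    ∃ (E : Type u) (_ : Field E) (_ : Algebra k E), FiniteDimensional k E ∧ IsGalois k E ∧
      ∃ τ : Triv T (sp (algebraMap k E)), Nonempty (τ.M ≃+ (Fin r → ℤ)) := by
  obtain ⟨S', f, hfin, het, hsurj, hloc⟩ := hT
  haveI : IsAffine S' := isAffine_of_isAffineHom f
  obtain ⟨φ, hφ⟩ : ∃ φ : CommRingCat.of k ⟶ Γ(S', ⊤), Spec.map φ = S'.isoSpec.inv ≫ f :=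
    ⟨_, Spec.map_preimage _⟩
  letI := φ.hom.toAlgebra
  have hfinφ : φ.hom.Finite := by
    rw [← IsFinite.SpecMap_iff, hφ]
    infer_instance
  have hetφ : φ.hom.Etale := by
    rw [← HasRingHomProperty.Spec_iff (P := @Etale), hφ]
    infer_instance
  haveI : Module.Finite k Γ(S', ⊤) := hfinφ
  haveI : Algebra.Etale k Γ(S', ⊤) := hetφ
  haveI : Surjective (Spec.map φ) := by rw [hφ]; infer_instance
  obtain ⟨q, -⟩ := (Spec.map φ).surjective (⟨⊥, Ideal.isPrime_bot⟩ : PrimeSpectrum k)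
  haveI := q.isPrime
  haveI : IsArtinianRing Γ(S', ⊤) := IsArtinianRing.of_finite k _
  haveI : q.asIdeal.IsMaximal := IsArtinianRing.isMaximal_of_isPrime q.asIdeal
  let C := Γ(S', ⊤) ⧸ q.asIdeal
  letI : Field C := Ideal.Quotient.field q.asIdeal
  haveI : Algebra.FormallyUnramified k C :=
    .of_surjective (Ideal.Quotient.mkₐ k q.asIdeal) (Ideal.Quotient.mkₐ_surjective k _)
  haveI : Algebra.IsSeparable k C := Algebra.FormallyUnramified.isSeparable _ _
  obtain ⟨E, _, _, hfd, hgal, ⟨jE⟩⟩ := Groth.TorusPts.exists_galois_over (K := k) C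
  let qE : Spec (CommRingCat.of E) ⟶ S' :=
    Spec.map (CommRingCat.ofHom ((jE : C →+* E).comp (Ideal.Quotient.mk q.asIdeal))) ≫ S'.isoSpec.inv
  let pt : Spec (CommRingCat.of E) := (⟨⊥, Ideal.isPrime_bot⟩ : PrimeSpectrum E)
  obtain ⟨U, hU, -, ⟨e⟩⟩ := hloc (qE.base pt)
  have hrange : Set.range qE.base ⊆ Set.range U.ι.base := by
    rw [Scheme.Opens.range_ι]
    rintro _ ⟨x, rfl⟩
    rwa [Subsingleton.elim (α := PrimeSpectrum E) x pt]
  refine ⟨E, inferInstance, inferInstance, hfd, hgal,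
    trivOfIso e (IsOpenImmersion.lift U.ι qE hrange) ?_, ⟨AddEquiv.refl _⟩⟩
  show IsOpenImmersion.lift U.ι qE hrange ≫ U.ι ≫ f = Spec.map (CommRingCat.ofHom (algebraMap k E))
  rw [IsOpenImmersion.lift_fac_assoc]
  show (Spec.map _ ≫ S'.isoSpec.inv) ≫ f = _
  rw [Category.assoc, ← hφ, ← Spec.map_comp]
  congr 1
  refine CommRingCat.hom_ext (RingHom.ext fun a => ?_)
  exact jE.commutes a

end Groth.Misc15.RetractLift
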