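import Groth.Agent.Misc15.RetractLift.Density
import Groth.Agent.Misc15.RetractLift.Split
import Groth.Agent.Reductive2.TorusBasic

/-!
Lifting rational points of a torus from residue fields when an open subset is a retract of an open
subset of affine space.
-/

set_option autoImplicit false
set_option linter.style.haveILetI false

universe u

open CategoryTheory MonoidalCategory CartesianMonoidalCategory MonObj AlgebraicGeometry TensorProduct
open Groth.Misc15.TorusDvr

noncomputable section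

namespace Groth.Misc15.RetractLift

variable {k : Type u} [Field k] {T : Over (Spec (CommRingCat.of k))}

/-- The closed point of a local algebra. -/
abbrev resPt {A : Type u} [CommRing A] [IsLocalRing A] [Algebra k A] :
    sp ((IsLocalRing.residue A).comp (algebraMap k A)) ⟶ sp (algebraMap k A) :=
  spMap (IsLocalRing.residue A) _ _ rfl

theorem ptHom_ne_zero_iff [IsAffine T.left] {S : Type u} [Field S] {c : k →+* S} (x : sp c ⟶ T)
    (f : Γ(T.left, ⊤)) (p : Spec (CommRingCat.of S)) :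
    (x.left : Spec (CommRingCat.of S) ⟶ T.left).base p ∈ T.left.basicOpen f ↔ ptHom x f ≠ 0 := by
  rw [← Scheme.toSpecΓ_preimage_basicOpen, ← Scheme.isoSpec_hom]
  change ((x.left : Spec (CommRingCat.of S) ⟶ T.left) ≫ T.left.isoSpec.hom).base p ∈ PrimeSpectrum.basicOpen f ↔ _
  rw [← specMap_ptHom]
  refine (PrimeSpectrum.mem_basicOpen f _).trans ?_
  show f ∉ Ideal.comap (ptHom x) (PrimeSpectrum.asIdeal p) ↔ _
  have hp : (PrimeSpectrum.asIdeal p : Ideal S) = ⊥ :=
    (Ideal.eq_bot_or_top _).resolve_right p.isPrime.ne_top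
  rw [Ideal.mem_comap]
  change ptHom x f ∉ (p.asIdeal : Ideal S) ↔ _
  rw [hp, Ideal.mem_bot]

/-- Points of an open that is a retract of an open of affine space lift. -/
theorem exists_lift_of_mem {U : T.left.Opens} {n : ℕ} {Y : (Spec (CommRingCat.of (MvPolynomial (Fin n) k))).Opens}
    (a : (U : Scheme.{u}) ⟶ (Y : Scheme.{u})) (b : (Y : Scheme.{u}) ⟶ (U : Scheme.{u}))
    (hab : a ≫ b = 𝟙 (U : Scheme.{u}))
    (ha : a ≫ Y.ι ≫ Spec.map (CommRingCat.ofHom (algebraMap k (MvPolynomial (Fin n) k))) = U.ι ≫ T.hom)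
    (hb : b ≫ U.ι ≫ T.hom = Y.ι ≫ Spec.map (CommRingCat.ofHom (algebraMap k (MvPolynomial (Fin n) k))))
    {A : Type u} [CommRing A] [IsLocalRing A] [Algebra k A]
    (w : sp ((IsLocalRing.residue A).comp (algebraMap k A)) ⟶ T)
    (hw : ∀ p, (w.left : Spec (CommRingCat.of (IsLocalRing.ResidueField A)) ⟶ T.left).base p ∈ U) :
    ∃ s : sp (algebraMap k A) ⟶ T, resPt ≫ s = w := by
  let wl : Spec (CommRingCat.of (IsLocalRing.ResidueField A)) ⟶ T.left := w.left
  let wU := IsOpenImmersion.lift U.ι wl (by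
    rw [Scheme.Opens.range_ι]; rintro _ ⟨p, rfl⟩; exact hw p)
  have hwU : wU ≫ U.ι = wl := IsOpenImmersion.lift_fac _ _ _
  obtain ⟨ψ, hψ⟩ : ∃ ψ : CommRingCat.of (MvPolynomial (Fin n) k) ⟶ CommRingCat.of (IsLocalRing.ResidueField A),
      Spec.map ψ = wU ≫ a ≫ Y.ι := ⟨_, Spec.map_preimage _⟩
  have hψk : ∀ c : k, ψ (MvPolynomial.C c) = IsLocalRing.residue A (algebraMap k A c) := by
    intro c
    have h1 : Spec.map (CommRingCat.ofHom (algebraMap k (MvPolynomial (Fin n) k)) ≫ ψ) =
        Spec.map (CommRingCat.ofHom ((IsLocalRing.residue A).comp (algebraMap k A))) := by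
      rw [Spec.map_comp, hψ, Category.assoc, Category.assoc, ha, ← Category.assoc, hwU]
      exact Over.w w
    exact RingHom.congr_fun (CommRingCat.hom_ext_iff.1 (Spec.map_injective h1)) c
  choose y hy using fun i : Fin n => IsLocalRing.residue_surjective (R := A) (ψ (MvPolynomial.X i))
  let Ψ : MvPolynomial (Fin n) k →+* A := MvPolynomial.eval₂Hom (algebraMap k A) y
  have hres : CommRingCat.ofHom Ψ ≫ CommRingCat.ofHom (IsLocalRing.residue A) = ψ := by
    refine CommRingCat.hom_ext (MvPolynomial.ringHom_ext (fun c => ?_) fun i => ?_)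
    · show IsLocalRing.residue A (Ψ (MvPolynomial.C c)) = ψ (MvPolynomial.C c)
      rw [hψk]
      simp [Ψ]
    · show IsLocalRing.residue A (Ψ (MvPolynomial.X i)) = ψ (MvPolynomial.X i)
      simp [Ψ, hy]
  let σA : Spec (CommRingCat.of A) ⟶ Spec (CommRingCat.of (MvPolynomial (Fin n) k)) :=
    Spec.map (CommRingCat.ofHom Ψ)
  have hcomp : Spec.map (CommRingCat.ofHom (IsLocalRing.residue A)) ≫ σA = wU ≫ a ≫ Y.ι := by
    rw [← hψ, ← Spec.map_comp, hres]
  have hrange : Set.range σA.base ⊆ Set.range Y.ι.base := by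
    rw [Scheme.Opens.range_ι]
    rintro _ ⟨p, rfl⟩
    refine (IsLocalRing.specializes_closedPoint p).map σA.base.hom.2 |>.mem_open Y.isOpen ?_
    let q : Spec (CommRingCat.of (IsLocalRing.ResidueField A)) := (⟨⊥, Ideal.isPrime_bot⟩ : PrimeSpectrum _)
    have hq : (Spec.map (CommRingCat.ofHom (IsLocalRing.residue A))).base q = IsLocalRing.closedPoint A := by
      refine PrimeSpectrum.ext ?_
      show Ideal.comap (IsLocalRing.residue A) ⊥ = _
      exact IsLocalRing.ker_residue
    rw [← hq]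
    show (Spec.map (CommRingCat.ofHom (IsLocalRing.residue A)) ≫ σA).base q ∈ _
    rw [hcomp]
    exact (a.base (wU.base q)).2
  let σY := IsOpenImmersion.lift Y.ι σA hrange
  have hσY : σY ≫ Y.ι = σA := IsOpenImmersion.lift_fac _ _ _
  refine ⟨Over.homMk (σY ≫ b ≫ U.ι) ?_, ?_⟩
  · show _ = Spec.map (CommRingCat.ofHom (algebraMap k A))
    rw [Category.assoc, Category.assoc, hb, ← Category.assoc, hσY, ← Spec.map_comp]
    congr 1
    refine CommRingCat.hom_ext (RingHom.ext fun c => ?_)
    show Ψ (MvPolynomial.C c) = algebraMap k A c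
    simp [Ψ]
  · ext : 1
    show Spec.map (CommRingCat.ofHom (IsLocalRing.residue A)) ≫ σY ≫ b ≫ U.ι = wl
    have h2 : Spec.map (CommRingCat.ofHom (IsLocalRing.residue A)) ≫ σY = wU ≫ a := by
      rw [← cancel_mono Y.ι, Category.assoc, hσY, hcomp, Category.assoc]
    rw [reassoc_of% h2, reassoc_of% hab, hwU]

variable [GrpObj T] [IsAffine T.left] {E : Type u} [Field E] [Algebra k E] [FiniteDimensional k E] [IsGalois k E]
  (τ : Groth.Reductive.MTInt.Triv T (sp (algebraMap k E)))

/-- A function cutting out a nonempty piece of an open. -/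
theorem exists_fun (U : T.left.Opens) (hU : (U : Set T.left).Nonempty) :
    ∃ f : Γ(T.left, ⊤), T.left.basicOpen f ≤ U ∧ ptHom (univPt τ) f ≠ 0 := by
  obtain ⟨p, hp⟩ := hU
  obtain ⟨f, hfU, hpf⟩ := (isAffineOpen_top T.left).exists_basicOpen_le (⟨p, hp⟩ : U) (by trivial)
  refine ⟨f, hfU, fun h0 => ?_⟩
  let κp : Type u := T.left.residueField p
  obtain ⟨ψ, hψ⟩ : ∃ ψ : CommRingCat.of k ⟶ CommRingCat.of κp,
      Spec.map ψ = T.left.fromSpecResidueField p ≫ T.hom := ⟨_, Spec.map_preimage _⟩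
  letI : Algebra k κp := ψ.hom.toAlgebra
  obtain ⟨M, hM⟩ := Ideal.exists_maximal (E ⊗[k] κp)
  letI := Ideal.Quotient.field M
  let S := (E ⊗[k] κp) ⧸ M
  let β : E →+* S := (Ideal.Quotient.mk M).comp Algebra.TensorProduct.includeLeftRingHom
  let j : κp →+* S := (Ideal.Quotient.mk M).comp
    ((Algebra.TensorProduct.includeRight : κp →ₐ[k] E ⊗[k] κp) : κp →+* E ⊗[k] κp)
  have hβ : β.comp (algebraMap k E) = algebraMap k S := rfl
  have hj : j.comp (algebraMap k κp) = algebraMap k S := RingHom.ext fun c => by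
    show Ideal.Quotient.mk M (Algebra.TensorProduct.includeRight (algebraMap k κp c)) = _
    rw [AlgHom.commutes]
    rfl
  let x₀ : sp (algebraMap k κp) ⟶ T := Over.homMk (T.left.fromSpecResidueField p) hψ.symm
  let x := spMap j _ (algebraMap k S) hj ≫ x₀
  have hx : ptHom x f ≠ 0 := by
    let q : Spec (CommRingCat.of S) := (⟨⊥, Ideal.isPrime_bot⟩ : PrimeSpectrum S)
    refine (ptHom_ne_zero_iff x f q).1 ?_
    show (Spec.map (CommRingCat.ofHom j) ≫ T.left.fromSpecResidueField p).base q ∈ _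
    rw [Scheme.Hom.comp_apply, Scheme.fromSpecResidueField_apply]
    exact hpf
  rw [ptHom_eq_eval τ β (algebraMap k S) hβ x, h0, map_zero] at hx
  exact hx rfl

end Groth.Misc15.RetractLift
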